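import Groth.Agent.ARSysLib.Back
import Mathlib.CategoryTheory.Limits.Shapes.Pullback.IsPullback.Defs
import Mathlib.CategoryTheory.Abelian.Basic
import Mathlib.CategoryTheory.Limits.Shapes.FiniteProducts
import Mathlib.LinearAlgebra.Finsupp.LinearCombination
import Mathlib.RingTheory.Finiteness.Ideal

set_option autoImplicit false
universe w v u
open CategoryTheory CategoryTheory.Limits Opposite

namespace Groth.Agent.ARSysLib

variable {C : Type u} [Category.{v} C] [Abelian C] {A : Type w} [CommRing A] [Linear A C]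

section Killed

variable {I K : Ideal A} {P Q R : C}

lemma smul_eq_zero_of_killed (h : ARSys.KilledBy I Q) (f : P ⟶ Q) {a : A} (ha : a ∈ I) : a • f = 0 := by
  rw [← Category.comp_id f, ← Linear.comp_smul, h a ha, comp_zero]

lemma smul_eq_zero_of_killed' (h : ARSys.KilledBy I P) (f : P ⟶ Q) {a : A} (ha : a ∈ I) : a • f = 0 := by
  rw [← Category.id_comp f, ← Linear.smul_comp, h a ha, zero_comp]

lemma killed_of_epi (p : P ⟶ Q) [Epi p] (h : ARSys.KilledBy I P) : ARSys.KilledBy I Q := by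
  intro a ha
  rw [← cancel_epi p, comp_zero, Linear.comp_smul, Category.comp_id]
  exact smul_eq_zero_of_killed' h p ha

lemma killed_of_mono (i : P ⟶ Q) [Mono i] (h : ARSys.KilledBy I Q) : ARSys.KilledBy I P := by
  intro a ha
  rw [← cancel_mono i, zero_comp, Linear.smul_comp, Category.id_comp]
  exact smul_eq_zero_of_killed h i ha

lemma killed_mono (h : ARSys.KilledBy I P) (hIK : K ≤ I) : ARSys.KilledBy K P := fun a ha => h a (hIK ha)

lemma homKilled_of_target (h : ARSys.KilledBy I Q) (f : P ⟶ Q) : ARSys.HomKilledBy I f :=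
  fun _ ha => smul_eq_zero_of_killed h f ha

lemma homKilled_comp (f : P ⟶ Q) {g : Q ⟶ R} (h : ARSys.HomKilledBy I g) : ARSys.HomKilledBy I (f ≫ g) :=
  fun a ha => by rw [← Linear.comp_smul, h a ha, comp_zero]

lemma homKilled_comp' {f : P ⟶ Q} (g : Q ⟶ R) (h : ARSys.HomKilledBy I f) : ARSys.HomKilledBy I (f ≫ g) :=
  fun a ha => by rw [← Linear.smul_comp, h a ha, zero_comp]

lemma homKilled_of_epi (f : P ⟶ Q) [Epi f] {g : Q ⟶ R} (h : ARSys.HomKilledBy I (f ≫ g)) :
    ARSys.HomKilledBy I g := fun a ha => by rw [← cancel_epi f, comp_zero, Linear.comp_smul, h a ha]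

lemma homKilled_mono {f : P ⟶ Q} (h : ARSys.HomKilledBy I f) (hKI : K ≤ I) : ARSys.HomKilledBy K f :=
  fun a ha => h a (hKI ha)

lemma isQuot_epi {p : P ⟶ Q} (hp : ARSys.IsQuot I p) : Epi p := by
  refine Preadditive.epi_of_cancel_zero p fun {R} g hg => ?_
  exact (hp.2 R 0 (fun a _ => smul_zero a)).unique hg comp_zero

lemma isQuot_of_epi (p : P ⟶ Q) [Epi p] (hQ : ARSys.KilledBy I Q)
    (h : ∀ (Y : C) (φ : P ⟶ Y), ARSys.HomKilledBy I φ → kernel.ι p ≫ φ = 0) : ARSys.IsQuot I p :=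
  ⟨hQ, fun Y φ hφ => ⟨Abelian.epiDesc p φ (h Y φ hφ), Abelian.comp_epiDesc _ _ _,
    fun ψ hψ => by rw [← cancel_epi p, hψ, Abelian.comp_epiDesc]⟩⟩

theorem exists_quot (P : C) (I : Ideal A) (hI : I.FG ∨ HasCoproducts.{w} C) :
    ∃ (Q : C) (p : P ⟶ Q), ARSys.IsQuot I p := by
  have key : ∀ {ι : Type w} (a : ι → A) [HasCoproduct (fun _ : ι => P)],
      Ideal.span (Set.range a) = I → ∃ (Q : C) (p : P ⟶ Q), ARSys.IsQuot I p := by
    intro ι a _ ha
    let d : (∐ fun _ : ι => P) ⟶ P := Sigma.desc fun i => a i • 𝟙 P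
    have hk : ∀ {Y : C} (φ : P ⟶ Y), d ≫ φ = 0 → ARSys.HomKilledBy I φ := by
      intro Y φ hφ b hb
      rw [← ha] at hb
      induction hb using Submodule.span_induction with
      | mem b hb =>
        obtain ⟨i, rfl⟩ := hb
        have := congrArg (Sigma.ι (fun _ : ι => P) i ≫ ·) hφ
        simpa [d] using this
      | zero => simp
      | add b c _ _ h1 h2 => rw [add_smul, h1, h2, add_zero]
      | smul r b _ h1 => rw [smul_eq_mul, mul_smul, h1, smul_zero]
    refine ⟨cokernel d, cokernel.π d, isQuot_of_epi _ ?_ fun Y φ hφ => ?_⟩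
    · intro b hb
      rw [← cancel_epi (cokernel.π d), comp_zero, Linear.comp_smul, Category.comp_id]
      exact hk _ (cokernel.condition d) b hb
    · have h0 : d ≫ φ = 0 := Limits.Sigma.hom_ext _ _ fun i => by
        simp [d, hφ (a i) (ha ▸ Ideal.subset_span ⟨i, rfl⟩)]
      rw [← cokernel.π_desc d φ h0, kernel.condition_assoc, zero_comp]
  rcases hI with hI | hI
  · obtain ⟨n, a, ha⟩ := Submodule.fg_iff_exists_fin_generating_family.1 hI
    exact key (ι := ULift.{w} (Fin n)) (fun i => a i.down)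
      (by rw [← ha]; congr 1; ext x; simp)
  · haveI := hI
    exact key (ι := I) (fun x => (x : A)) (by simp)

lemma pow_or (J : Ideal A) (hJ : J.FG ∨ HasCoproducts.{w} C) (k : ℕ) :
    (J ^ k).FG ∨ HasCoproducts.{w} C :=
  hJ.imp_left fun h => Ideal.FG.pow h

end Killed

section Systems

variable (J : Ideal A)

lemma strict_of_adic {X : ARSys.PS C} (hX : ARSys.IsAdic J X) : ARSys.IsStrict X :=
  fun n m h => isQuot_epi (hX.2 n m h)

theorem exists_unique_hom (X Y : ARSys.PS C) (hX : ARSys.IsAdic J X) (hY : ARSys.TermKilled J Y) (r : ℕ)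
    (f : (ARSys.shift C r).obj X ⟶ Y) :
    ∃! g : X ⟶ Y, ∀ n : ℕ, f.app (op n) = ARSys.shiftMap X r n ≫ g.app (op n) := by
  have h := fun n : ℕ => (hX.2 n (n + r) (Nat.le_add_right n r)).2 (Y.obj (op n)) (f.app (op n))
    (homKilled_of_target (hY n) _)
  choose g hg hu using h
  refine ⟨mkHom g fun a b hab => ?_, fun n => (hg n).symm,
    fun g' hg' => natTrans_ext fun n => hu n _ (hg' n).symm⟩
  haveI := strict_of_adic J hX b (b + r) (Nat.le_add_right b r)
  rw [← cancel_epi (ARSys.tr X (Nat.le_add_right b r)), tr_comp_assoc]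
  have e2 : ARSys.tr X (Nat.add_le_add_right hab r) ≫ (f.app (op a) : X.obj (op (a + r)) ⟶ Y.obj (op a)) =
      (f.app (op b) : X.obj (op (b + r)) ⟶ Y.obj (op b)) ≫ ARSys.tr Y hab := f.naturality (homOfLE hab).op
  have e : ARSys.tr X (Nat.add_le_add_right hab r) ≫ ARSys.tr X (Nat.le_add_right a r) ≫ g a =
      (ARSys.tr X (Nat.le_add_right b r) ≫ g b) ≫ ARSys.tr Y hab :=
    (congrArg (ARSys.tr X (Nat.add_le_add_right hab r) ≫ ·) (hg a)).trans
      (e2.trans (congrArg (· ≫ ARSys.tr Y hab) (hg b).symm))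
  rw [← Category.assoc, tr_comp, Category.assoc] at e
  exact e

theorem exists_arIso_of_shift (X Y : ARSys.PS C) (kX : ARSys.TermKilled J X) (hY : ARSys.IsAdic J Y) (r : ℕ)
    (v : (ARSys.shift C r).obj Y ⟶ X) (hv : ARSys.IsARIso v) : ∃ u : Y ⟶ X, ARSys.IsARIso u := by
  obtain ⟨g, hg, -⟩ := exists_unique_hom J Y X hY kX r v
  refine ⟨g, ?_⟩
  obtain ⟨s, w, hw⟩ := (isARIso_iff v).1 hv
  let wT : ∀ n m, n ≤ m → n + s ≤ m → (X.obj (op m) ⟶ Y.obj (op (n + r))) := w
  have T1 : ∀ n m (h : n ≤ m) (hm : n + s ≤ m),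
      (ARSys.tr Y (Nat.le_add_right m r) ≫ g.app (op m)) ≫ wT n m h hm =
        ARSys.tr Y (Nat.add_le_add_right h r) :=
    fun n m h hm => (congrArg (· ≫ w n m h hm) (hg m).symm).trans (hw n m h hm).1
  have T2 : ∀ n m (h : n ≤ m) (hm : n + s ≤ m),
      wT n m h hm ≫ ARSys.tr Y (Nat.le_add_right n r) ≫ g.app (op n) = ARSys.tr X h :=
    fun n m h hm => (congrArg (w n m h hm ≫ ·) (hg n).symm).trans (hw n m h hm).2.1
  have T3 : ∀ n m (h : n ≤ m) (hm : n + s ≤ m) k (hk : m ≤ k),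
      ARSys.tr X hk ≫ wT n m h hm = wT n k (h.trans hk) (hm.trans hk) :=
    fun n m h hm => (hw n m h hm).2.2.1
  have T4 : ∀ n m (h : n ≤ m) (hm : n + s ≤ m) j (hj : j ≤ n),
      wT n m h hm ≫ ARSys.tr Y (Nat.add_le_add_right hj r) =
        wT j m (hj.trans h) ((Nat.add_le_add_right hj s).trans hm) :=
    fun n m h hm => (hw n m h hm).2.2.2
  refine (isARIso_iff g).2 ⟨r + s, fun n m h hm => wT n m h (by omega) ≫ ARSys.tr Y (Nat.le_add_right n r), ?_⟩
  intro n m h hm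
  refine ⟨?_, ?_, fun k hk => ?_, fun j hj => ?_⟩
  · haveI := strict_of_adic J hY m (m + r) (Nat.le_add_right m r)
    rw [← cancel_epi (ARSys.tr Y (Nat.le_add_right m r))]
    simp only [← Category.assoc]
    rw [T1, tr_comp, tr_comp]
  · rw [Category.assoc, T2]
  · rw [← Category.assoc, T3]
  · show _ = wT j m _ _ ≫ _
    rw [Category.assoc, tr_comp, ← T4 n m h (by omega) j hj, Category.assoc, tr_comp]

variable (S : ShortComplex (ARSys.PS C)) (hS : S.ShortExact)
include hS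

lemma exact_desc (n : ℕ) {W : C} (φ : S.X₂.obj (op n) ⟶ W) (h : S.f.app (op n) ≫ φ = 0) :
    ∃ ψ : S.X₃.obj (op n) ⟶ W, S.g.app (op n) ≫ ψ = φ := by
  have he := shortExact_app hS n
  haveI := he.epi_g
  exact ⟨he.exact.desc φ h, he.exact.g_desc _ _⟩

theorem adic_X₃ (h₁ : ARSys.IsStrict S.X₁) (h₂ : ARSys.IsAdic J S.X₂) : ARSys.IsAdic J S.X₃ := by
  haveI := hS.epi_g
  refine ⟨fun n => haveI := epi_app S.g n; killed_of_epi (S.g.app (op n)) (h₂.1 n), fun n m h => ?_⟩
  haveI := epi_app S.g n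
  haveI := epi_app S.g m
  haveI := strict_of_adic J h₂ n m h
  haveI : Epi (ARSys.tr S.X₃ h) :=
    haveI : Epi (S.g.app (op m) ≫ ARSys.tr S.X₃ h) := by rw [← tr_nat]; exact epi_comp _ _
    epi_of_epi (S.g.app (op m)) _
  refine isQuot_of_epi _ (killed_of_epi (S.g.app (op n)) (h₂.1 n)) fun W φ hφ => ?_
  obtain ⟨ψ, hψ, -⟩ := (h₂.2 n m h).2 W (S.g.app (op m) ≫ φ) (homKilled_comp _ hφ)
  have h0 : S.f.app (op n) ≫ ψ = 0 := by
    haveI := h₁ n m h
    rw [← cancel_epi (ARSys.tr S.X₁ h), comp_zero, ← Category.assoc, tr_nat, Category.assoc, hψ,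
      ← Category.assoc, ← NatTrans.comp_app, S.zero]
    exact zero_comp
  obtain ⟨χ, hχ⟩ := exact_desc S hS n ψ h0
  have e : φ = ARSys.tr S.X₃ h ≫ χ := by
    rw [← cancel_epi (S.g.app (op m)), ← Category.assoc, ← tr_nat, Category.assoc, hχ, hψ]
  rw [e, kernel.condition_assoc, zero_comp]

theorem strict_X₁ (k₂ : ARSys.TermKilled J S.X₂) (h₂ : ARSys.IsStrict S.X₂) (h₃ : ARSys.IsAdic J S.X₃) :
    ARSys.IsStrict S.X₁ := by
  haveI := hS.mono_f
  haveI := hS.epi_g
  intro n m h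
  refine Preadditive.epi_of_cancel_zero _ fun {W} φ hφ => ?_
  haveI := mono_app S.f n
  let u := pushout.inl (S.f.app (op n)) φ
  let ι := pushout.inr (S.f.app (op n)) φ
  have h0 : S.f.app (op m) ≫ ARSys.tr S.X₂ h ≫ u = 0 := by
    rw [← Category.assoc, ← tr_nat, Category.assoc, pushout.condition, ← Category.assoc, hφ, zero_comp]
  obtain ⟨v, hv⟩ := exact_desc S hS m _ h0
  have hk : ARSys.HomKilledBy (J ^ (n + 1)) v := by
    haveI := epi_app S.g m
    refine homKilled_of_epi (S.g.app (op m)) ?_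
    rw [hv]
    exact homKilled_comp' _ (homKilled_of_target (k₂ n) _)
  obtain ⟨w, hw, -⟩ := (h₃.2 n m h).2 _ v hk
  haveI := h₂ n m h
  have hu : u = S.g.app (op n) ≫ w := by
    rw [← cancel_epi (ARSys.tr S.X₂ h), ← hv, ← hw, ← Category.assoc, ← Category.assoc, tr_nat]
  rw [← cancel_mono ι, zero_comp, ← pushout.condition]
  show _ ≫ u = 0
  rw [hu, ← Category.assoc, ← NatTrans.comp_app, S.zero]
  exact zero_comp

theorem adic_X₂ (k₂ : ARSys.TermKilled J S.X₂) (h₁ : ARSys.IsAdic J S.X₁) (h₃ : ARSys.IsAdic J S.X₃) :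
    ARSys.IsAdic J S.X₂ := by
  haveI := hS.mono_f
  haveI := hS.epi_g
  refine ⟨k₂, fun n m h => ?_⟩
  haveI := strict_of_adic J h₁ n m h
  haveI := strict_of_adic J h₃ n m h
  haveI := epi_app S.g n
  haveI := epi_app S.g m
  haveI : Epi (ARSys.tr S.X₂ h) := by
    refine Preadditive.epi_of_cancel_zero _ fun {W} φ hφ => ?_
    have h0 : S.f.app (op n) ≫ φ = 0 := by
      rw [← cancel_epi (ARSys.tr S.X₁ h), comp_zero, ← Category.assoc, tr_nat, Category.assoc, hφ, comp_zero]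
    obtain ⟨χ, hχ⟩ := exact_desc S hS n φ h0
    have hχ0 : χ = 0 := by
      rw [← cancel_epi (S.g.app (op m) ≫ ARSys.tr S.X₃ h), ← tr_nat, Category.assoc, hχ, hφ, comp_zero]
    rw [← hχ, hχ0, comp_zero]
  refine isQuot_of_epi _ (k₂ n) fun W φ hφ => ?_
  obtain ⟨α, hα, -⟩ := (h₁.2 n m h).2 W (S.f.app (op m) ≫ φ) (homKilled_comp _ hφ)
  haveI := mono_app S.f n
  let u := pushout.inl (S.f.app (op n)) α
  let ι := pushout.inr (S.f.app (op n)) α
  have h0 : S.f.app (op m) ≫ (φ ≫ ι - ARSys.tr S.X₂ h ≫ u) = 0 := by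
    rw [Preadditive.comp_sub, ← Category.assoc, ← hα, ← Category.assoc, ← tr_nat, Category.assoc,
      Category.assoc, pushout.condition, sub_self]
  obtain ⟨v, hv⟩ := exact_desc S hS m _ h0
  have hk : ARSys.HomKilledBy (J ^ (n + 1)) v := by
    refine homKilled_of_epi (S.g.app (op m)) ?_
    rw [hv]
    intro a ha
    rw [smul_sub, homKilled_comp' ι hφ a ha,
      homKilled_comp' u (homKilled_of_target (k₂ n) (ARSys.tr S.X₂ h)) a ha, sub_zero]
  obtain ⟨w, hw, -⟩ := (h₃.2 n m h).2 _ v hk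
  have e : φ ≫ ι = ARSys.tr S.X₂ h ≫ (u + S.g.app (op n) ≫ w) := by
    rw [Preadditive.comp_add, ← Category.assoc (ARSys.tr S.X₂ h) (S.g.app (op n)), tr_nat,
      Category.assoc, hw, hv]
    abel
  rw [← cancel_mono ι, zero_comp, Category.assoc, e, kernel.condition_assoc, zero_comp]

end Systems

end Groth.Agent.ARSysLib
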