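import Groth.Agent.ARSysLib.Basic
import Mathlib.CategoryTheory.Limits.HasLimits

set_option autoImplicit false
universe v u
open CategoryTheory CategoryTheory.Limits Opposite

namespace Groth.Agent.ARSysLib

variable {C : Type u} [Category.{v} C] [Abelian C]

/-- partial inverse of a morphism, up to translation by `r` -/
def Back {X Y : ARSys.PS C} (u : X ⟶ Y) (r : ℕ)
    (w : ∀ (n m : ℕ), n ≤ m → n + r ≤ m → (Y.obj (op m) ⟶ X.obj (op n))) : Prop :=
  ∀ (n m : ℕ) (h : n ≤ m) (hm : n + r ≤ m),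
    u.app (op m) ≫ w n m h hm = ARSys.tr X h ∧ w n m h hm ≫ u.app (op n) = ARSys.tr Y h ∧
    (∀ (k : ℕ) (hk : m ≤ k), ARSys.tr Y hk ≫ w n m h hm = w n k (h.trans hk) (hm.trans hk)) ∧
    (∀ (j : ℕ) (hj : j ≤ n), w n m h hm ≫ ARSys.tr X hj =
      w j m (hj.trans h) ((Nat.add_le_add_right hj r).trans hm))

theorem isARIso_iff {X Y : ARSys.PS C} (u : X ⟶ Y) :
    ARSys.IsARIso u ↔ ∃ r w, Back u r w := by
  constructor
  · intro hu
    obtain ⟨r, hr⟩ := (isARNull_iff _).1 hu.1
    obtain ⟨s, hs⟩ := (isARNull_iff _).1 hu.2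
    let P : ∀ n m, n + (r + s) ≤ m → C := fun n m hm =>
      pullback (u.app (op (n + r))) (ARSys.tr Y (show n + r ≤ m by omega))
    have hepi : ∀ n m (hm : n + (r + s) ≤ m),
        Epi (pullback.snd (u.app (op (n + r))) (ARSys.tr Y (show n + r ≤ m by omega))) := by
      intro n m hm
      rw [epi_iff_surjective_up_to_refinements]
      intro T y
      obtain ⟨T', π, hπ, x, hx⟩ := (cokernel_nullBy_iff u s).1 hs (n + r) m (show n + r ≤ m by omega) (by omega) y
      exact ⟨T', π, hπ, pullback.lift x (π ≫ y) (by rw [← hx, Category.assoc]), (pullback.lift_snd _ _ _).symm⟩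
    have hker : ∀ n m (hm : n + (r + s) ≤ m) ⦃T : C⦄ (z : T ⟶ P n m hm),
        z ≫ pullback.snd _ _ = 0 → z ≫ pullback.fst _ _ ≫ ARSys.tr X (Nat.le_add_right n r) = 0 := by
      intro n m hm T z hz
      rw [← Category.assoc]
      refine (kernel_nullBy_iff u r).1 hr n (n + r) _ le_rfl _ ?_
      rw [Category.assoc, pullback.condition, ← Category.assoc, hz, zero_comp]
    have hw : ∀ n m (hm : n + (r + s) ≤ m), ∃ w : Y.obj (op m) ⟶ X.obj (op n),
        pullback.snd (u.app (op (n + r))) (ARSys.tr Y (show n + r ≤ m by omega)) ≫ w =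
          pullback.fst _ _ ≫ ARSys.tr X (Nat.le_add_right n r) := by
      intro n m hm
      haveI := hepi n m hm
      exact ⟨Abelian.epiDesc _ _ (hker n m hm (kernel.ι _) (kernel.condition _)), Abelian.comp_epiDesc _ _ _⟩
    choose w hw using hw
    have key : ∀ n m (hm : n + (r + s) ≤ m) ⦃T : C⦄ (x : T ⟶ X.obj (op (n + r))) (y : T ⟶ Y.obj (op m))
        (e : x ≫ u.app (op (n + r)) = y ≫ ARSys.tr Y (show n + r ≤ m by omega)),
        y ≫ w n m hm = x ≫ ARSys.tr X (Nat.le_add_right n r) := by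
      intro n m hm T x y e
      have := congrArg (pullback.lift x y e ≫ ·) (hw n m hm)
      simpa [pullback.lift_fst_assoc, pullback.lift_snd_assoc] using this
    refine ⟨r + s, fun n m _ hm => w n m hm, fun n m h hm => ⟨?_, ?_, fun k hk => ?_, fun j hj => ?_⟩⟩
    · rw [key n m hm (ARSys.tr X (show n + r ≤ m by omega)) (u.app (op m)) (tr_nat u _), tr_comp]
    · haveI := hepi n m hm
      rw [← cancel_epi (pullback.snd (u.app (op (n + r))) (ARSys.tr Y (show n + r ≤ m by omega))),
        ← Category.assoc, hw, Category.assoc, tr_nat, ← Category.assoc, pullback.condition,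
        Category.assoc, tr_comp]
    · haveI := hepi n k (hm.trans hk)
      rw [← cancel_epi (pullback.snd (u.app (op (n + r))) (ARSys.tr Y (show n + r ≤ k by omega))),
        hw, ← Category.assoc]
      refine key n m hm _ _ ?_
      rw [pullback.condition, Category.assoc, tr_comp]
    · haveI := hepi n m hm
      rw [← cancel_epi (pullback.snd (u.app (op (n + r))) (ARSys.tr Y (show n + r ≤ m by omega))),
        ← Category.assoc, hw, Category.assoc, tr_comp]
      rw [key j m _ (pullback.fst _ _ ≫ ARSys.tr X (Nat.add_le_add_right hj r)) _ ?_, Category.assoc, tr_comp]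
      rw [Category.assoc, tr_nat, ← Category.assoc, pullback.condition, Category.assoc, tr_comp]
  · rintro ⟨r, w, hw⟩
    refine ⟨(isARNull_iff _).2 ⟨r, ?_⟩, (isARNull_iff _).2 ⟨r, ?_⟩⟩
    · rw [kernel_nullBy_iff]
      intro n m h hm T x hx
      rw [← (hw n m h hm).1, ← Category.assoc, hx, zero_comp]
    · rw [cokernel_nullBy_iff]
      intro n m h hm T y
      exact ⟨T, 𝟙 T, inferInstance, y ≫ w n m h hm, by
        rw [Category.id_comp, Category.assoc, (hw n m h hm).2.1]⟩

theorem isARIso_comp {X Y Z : ARSys.PS C} (u : X ⟶ Y) (v : Y ⟶ Z) (hu : ARSys.IsARIso u)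
    (hv : ARSys.IsARIso v) : ARSys.IsARIso (u ≫ v) := by
  obtain ⟨r, w, hw⟩ := (isARIso_iff u).1 hu
  obtain ⟨s, w', hw'⟩ := (isARIso_iff v).1 hv
  refine (isARIso_iff _).2 ⟨r + s, fun n m h hm =>
    w' (n + r) m (by omega) (by omega) ≫ w n (n + r) (Nat.le_add_right n r) le_rfl, ?_⟩
  intro n m h hm
  obtain ⟨a1, a2, a3, a4⟩ := hw n (n + r) (Nat.le_add_right n r) le_rfl
  obtain ⟨b1, b2, b3, b4⟩ := hw' (n + r) m (by omega) (by omega)
  refine ⟨?_, ?_, fun k hk => ?_, fun j hj => ?_⟩
  · rw [NatTrans.comp_app, Category.assoc]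
    slice_lhs 2 3 => rw [b1]
    rw [← Category.assoc, ← tr_nat, Category.assoc, a1, tr_comp]
  · rw [NatTrans.comp_app, Category.assoc]
    slice_lhs 2 3 => rw [a2]
    rw [tr_nat, ← Category.assoc, b2, tr_comp]
  · rw [← Category.assoc, b3 k hk]
  · show _ = w' (j + r) m _ _ ≫ w j (j + r) _ _
    rw [Category.assoc, a4 j hj,
      ← b4 (j + r) (Nat.add_le_add_right hj r), Category.assoc,
      (hw j (j + r) (Nat.le_add_right j r) le_rfl).2.2.1 (n + r) (Nat.add_le_add_right hj r)]

theorem isIso_limMap [HasLimitsOfShape ℕᵒᵖ C] {X Y : ARSys.PS C} (u : X ⟶ Y) (hu : ARSys.IsARIso u) :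
    IsIso (limMap u) := by
  obtain ⟨r, w, hw⟩ := (isARIso_iff u).1 hu
  let c : Cone X :=
    { pt := limit Y
      π :=
        { app := fun n => limit.π Y (op (n.unop + r)) ≫ w n.unop (n.unop + r) (Nat.le_add_right _ r) le_rfl
          naturality := fun a b φ => by
            have hle : b.unop ≤ a.unop := leOfHom φ.unop
            show 𝟙 _ ≫ _ = (_ ≫ _) ≫ ARSys.tr X hle
            rw [Category.id_comp, Category.assoc,
              (hw _ _ (Nat.le_add_right a.unop r) le_rfl).2.2.2 b.unop hle,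
              ← (hw b.unop (b.unop + r) (Nat.le_add_right _ r) le_rfl).2.2.1 (a.unop + r)
                (Nat.add_le_add_right hle r),
              ← Category.assoc, limit.w] } }
  refine ⟨limit.lift X c, ?_, ?_⟩
  · refine limit.hom_ext fun n => ?_
    obtain ⟨n⟩ := n
    rw [Category.assoc, limit.lift_π, Category.id_comp]
    show limMap u ≫ limit.π Y _ ≫ w n (n + r) _ _ = _
    rw [limMap_π_assoc, (hw n (n + r) (Nat.le_add_right n r) le_rfl).1, limit.w]
  · refine limit.hom_ext fun n => ?_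
    obtain ⟨n⟩ := n
    rw [Category.assoc, limMap_π, Category.id_comp, limit.lift_π_assoc]
    show (limit.π Y _ ≫ w n (n + r) _ _) ≫ u.app (op n) = _
    rw [Category.assoc, (hw n (n + r) (Nat.le_add_right n r) le_rfl).2.1, limit.w]

end Groth.Agent.ARSysLib
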