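import Groth.Prelude.Def_ARSys
import Mathlib.CategoryTheory.Abelian.Refinements
import Mathlib.Algebra.Homology.ShortComplex.ShortExact
import Mathlib.Algebra.Homology.ShortComplex.ExactFunctor
import Mathlib.CategoryTheory.Limits.Preserves.FunctorCategory

set_option autoImplicit false
universe v u
open CategoryTheory CategoryTheory.Limits Opposite

namespace Groth.Agent.ARSysLib

variable {C : Type u} [Category.{v} C]

@[reassoc]
lemma tr_comp (X : ARSys.PS C) {a b c : ℕ} (h : a ≤ b) (h' : b ≤ c) :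
    ARSys.tr X h' ≫ ARSys.tr X h = ARSys.tr X (h.trans h') := by
  rw [← X.map_comp]; rfl

@[simp]
lemma tr_refl (X : ARSys.PS C) {a : ℕ} (h : a ≤ a) : ARSys.tr X h = 𝟙 _ := by
  rw [← X.map_id]; rfl

@[reassoc]
lemma tr_nat {X Y : ARSys.PS C} (u : X ⟶ Y) {a b : ℕ} (h : a ≤ b) :
    ARSys.tr X h ≫ u.app (op a) = u.app (op b) ≫ ARSys.tr Y h := u.naturality _

lemma natTrans_ext {X Y : ARSys.PS C} {f g : X ⟶ Y} (h : ∀ n : ℕ, f.app (op n) = g.app (op n)) :
    f = g := NatTrans.ext (funext fun n => h n.unop)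

/-- build a morphism of systems from compatible components -/
def mkHom {X Y : ARSys.PS C} (f : ∀ n : ℕ, X.obj (op n) ⟶ Y.obj (op n))
    (h : ∀ (a b : ℕ) (hab : a ≤ b), ARSys.tr X hab ≫ f a = f b ≫ ARSys.tr Y hab) : X ⟶ Y where
  app n := f n.unop
  naturality {a b} φ := h b.unop a.unop (leOfHom φ.unop)

variable [Abelian C]

lemma exact_app {S : ShortComplex (ARSys.PS C)} (hS : S.Exact) (n : ℕ) :
    (S.map ((evaluation ℕᵒᵖ C).obj (op n))).Exact := hS.map _

lemma shortExact_app {S : ShortComplex (ARSys.PS C)} (hS : S.ShortExact) (n : ℕ) :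
    (S.map ((evaluation ℕᵒᵖ C).obj (op n))).ShortExact := hS.map_of_exact _

lemma exact_lift {S : ShortComplex (ARSys.PS C)} (hS : S.Exact) (n : ℕ) {T : C}
    (y : T ⟶ S.X₂.obj (op n)) (h : y ≫ S.g.app (op n) = 0) :
    ∃ (T' : C) (π : T' ⟶ T) (_ : Epi π) (x : T' ⟶ S.X₁.obj (op n)), π ≫ y = x ≫ S.f.app (op n) :=
  (exact_app hS n).exact_up_to_refinements y h

lemma mono_app {X Y : ARSys.PS C} (u : X ⟶ Y) [Mono u] (n : ℕ) : Mono (u.app (op n)) :=
  inferInstanceAs (Mono (((evaluation ℕᵒᵖ C).obj (op n)).map u))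

lemma epi_app {X Y : ARSys.PS C} (u : X ⟶ Y) [Epi u] (n : ℕ) : Epi (u.app (op n)) :=
  inferInstanceAs (Epi (((evaluation ℕᵒᵖ C).obj (op n)).map u))

section Null

/-- all transition maps across a distance at least `r` vanish -/
def NullBy (r : ℕ) (X : ARSys.PS C) : Prop :=
  ∀ (n m : ℕ) (h : n ≤ m), n + r ≤ m → ARSys.tr X h = 0

lemma isARNull_iff (X : ARSys.PS C) : ARSys.IsARNull X ↔ ∃ r, NullBy r X := by
  constructor
  · rintro ⟨r, hr⟩
    refine ⟨r, fun n m h hm => ?_⟩
    rw [← tr_comp X (Nat.le_add_right n r) hm]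
    show _ ≫ ARSys.shiftMap X r n = 0
    rw [hr n]; exact comp_zero
  · rintro ⟨r, hr⟩
    exact ⟨r, fun n => hr n (n + r) _ le_rfl⟩

lemma NullBy.mono {r s : ℕ} {X : ARSys.PS C} (h : NullBy r X) (hrs : r ≤ s) : NullBy s X :=
  fun n m hnm hm => h n m hnm (le_trans (Nat.add_le_add_left hrs n) hm)

lemma nullBy_of_mono {r : ℕ} {X Y : ARSys.PS C} (u : X ⟶ Y) [Mono u] (h : NullBy r Y) : NullBy r X := by
  intro n m hnm hm
  haveI := mono_app u n
  rw [← cancel_mono (u.app (op n)), zero_comp, tr_nat, h n m hnm hm, comp_zero]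

lemma nullBy_of_epi {r : ℕ} {X Y : ARSys.PS C} (u : X ⟶ Y) [Epi u] (h : NullBy r X) : NullBy r Y := by
  intro n m hnm hm
  haveI := epi_app u m
  rw [← cancel_epi (u.app (op m)), comp_zero, ← tr_nat, h n m hnm hm, zero_comp]

lemma nullBy_mid {r s : ℕ} {S : ShortComplex (ARSys.PS C)} (hS : S.Exact) (h₁ : NullBy r S.X₁)
    (h₃ : NullBy s S.X₃) : NullBy (r + s) S.X₂ := by
  intro n m hnm hm
  have h1 : n + r ≤ m := le_trans (Nat.add_le_add_left (Nat.le_add_right r s) n) hm
  have hz : ARSys.tr S.X₂ h1 ≫ S.g.app (op (n + r)) = 0 := by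
    rw [tr_nat, h₃ (n + r) m h1 (by omega), comp_zero]
  obtain ⟨T, π, hπ, x, hx⟩ := exact_lift hS (n + r) _ hz
  rw [← tr_comp S.X₂ (Nat.le_add_right n r) h1, ← cancel_epi π, comp_zero, ← Category.assoc]
  erw [hx]
  rw [Category.assoc]
  erw [← tr_nat]
  rw [h₁ n (n + r) _ le_rfl, zero_comp, comp_zero]

lemma kernel_nullBy_iff {X Y : ARSys.PS C} (u : X ⟶ Y) (r : ℕ) :
    NullBy r (kernel u) ↔ ∀ (n m : ℕ) (h : n ≤ m), n + r ≤ m →
      ∀ ⦃T : C⦄ (x : T ⟶ X.obj (op m)), x ≫ u.app (op m) = 0 → x ≫ ARSys.tr X h = 0 := by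
  constructor
  · intro hk n m h hm T x hx
    have hex : (ShortComplex.mk (kernel.ι u) u (kernel.condition u)).Exact :=
      ShortComplex.exact_of_f_is_kernel _ (kernelIsKernel u)
    obtain ⟨T', π, hπ, z, hz⟩ := exact_lift hex (m) x hx
    rw [← cancel_epi π, comp_zero, ← Category.assoc]
    erw [hz]
    rw [Category.assoc]
    erw [← tr_nat]
    rw [hk n m h hm, zero_comp, comp_zero]
  · intro hx n m h hm
    haveI := mono_app (kernel.ι u) n
    rw [← cancel_mono ((kernel.ι u).app (op n)), zero_comp, tr_nat]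
    exact hx n m h hm _ (by rw [← NatTrans.comp_app, kernel.condition]; rfl)

lemma cokernel_nullBy_iff {X Y : ARSys.PS C} (u : X ⟶ Y) (r : ℕ) :
    NullBy r (cokernel u) ↔ ∀ (n m : ℕ) (h : n ≤ m), n + r ≤ m →
      ∀ ⦃T : C⦄ (y : T ⟶ Y.obj (op m)), ∃ (T' : C) (π : T' ⟶ T) (_ : Epi π) (x : T' ⟶ X.obj (op n)),
        π ≫ y ≫ ARSys.tr Y h = x ≫ u.app (op n) := by
  have hex : (ShortComplex.mk u (cokernel.π u) (cokernel.condition u)).Exact :=
    ShortComplex.exact_of_g_is_cokernel _ (cokernelIsCokernel u)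
  constructor
  · intro hc n m h hm T y
    have hz : (y ≫ ARSys.tr Y h) ≫ (cokernel.π u).app (op n) = 0 := by
      rw [Category.assoc, tr_nat, hc n m h hm, comp_zero, comp_zero]
    obtain ⟨T', π, hπ, x, hx⟩ := exact_lift hex (n) _ hz
    exact ⟨T', π, hπ, x, hx⟩
  · intro hy n m h hm
    haveI := epi_app (cokernel.π u) m
    rw [← cancel_epi ((cokernel.π u).app (op m)), comp_zero, ← tr_nat]
    obtain ⟨T', π, hπ, x, hx⟩ := hy n m h hm (𝟙 _)
    rw [Category.id_comp] at hx
    rw [← cancel_epi π, comp_zero, ← Category.assoc, hx, Category.assoc, ← NatTrans.comp_app,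
      cokernel.condition]
    exact comp_zero

end Null

section Images

lemma image_le_iff {P Q X : C} (f : P ⟶ X) (g : Q ⟶ X) :
    imageSubobject f ≤ imageSubobject g ↔
      ∀ ⦃T : C⦄ (a : T ⟶ P), ∃ (T' : C) (π : T' ⟶ T) (_ : Epi π) (b : T' ⟶ Q), π ≫ a ≫ f = b ≫ g := by
  constructor
  · intro h T a
    haveI : Epi (factorThruImageSubobject g) := by dsimp [factorThruImageSubobject]; infer_instance
    obtain ⟨T', π, hπ, b, hb⟩ := surjective_up_to_refinements_of_epi (factorThruImageSubobject g)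
      (a ≫ factorThruImageSubobject f ≫ Subobject.ofLE _ _ h)
    refine ⟨T', π, hπ, b, ?_⟩
    have := congrArg (fun t => t ≫ (imageSubobject g).arrow) hb
    simpa using this
  · intro h
    obtain ⟨T', π, hπ, b, hb⟩ := h (𝟙 P)
    rw [Category.id_comp] at hb
    have sq : CommSq (b ≫ factorThruImageSubobject g) π (imageSubobject g).arrow f := ⟨by simp [hb]⟩
    haveI : StrongEpi π := strongEpi_of_epi π
    exact imageSubobject_le f sq.lift sq.fac_right

/-- images of transition maps across a distance at least `r` are minimal -/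
def MLBy (r : ℕ) (X : ARSys.PS C) : Prop :=
  ∀ (n m k : ℕ) (hm : n ≤ m) (hk : n ≤ k), n + r ≤ m →
    imageSubobject (ARSys.tr X hm) ≤ imageSubobject (ARSys.tr X hk)

lemma image_tr_anti (X : ARSys.PS C) {n m k : ℕ} (hm : n ≤ m) (hmk : m ≤ k) :
    imageSubobject (ARSys.tr X (hm.trans hmk)) ≤ imageSubobject (ARSys.tr X hm) := by
  refine imageSubobject_le _ (ARSys.tr X hmk ≫ factorThruImageSubobject _) ?_
  rw [Category.assoc, imageSubobject_arrow_comp, tr_comp]

lemma isMLAR_iff (X : ARSys.PS C) : ARSys.IsMLAR X ↔ ∃ r, MLBy r X := by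
  constructor
  · rintro ⟨r, hr⟩
    refine ⟨r, fun n m k hm hk hrm => ?_⟩
    refine le_trans (image_tr_anti X (Nat.le_add_right n r) hrm) ?_
    have h2 := hr (r + k) (Nat.le_add_right r k) n
    refine h2.ge.trans ?_
    exact image_tr_anti X hk (show k ≤ n + (r + k) by omega)
  · rintro ⟨r, hr⟩
    refine ⟨r, fun s hs n => ?_⟩
    exact le_antisymm (image_tr_anti X (Nat.le_add_right n r) (Nat.add_le_add_left hs n))
      (hr n (n + r) (n + s) _ _ le_rfl)

lemma image_le_of_coker {X Y : ARSys.PS C} (u : X ⟶ Y) {r : ℕ} (h : NullBy r (cokernel u))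
    {n m : ℕ} (hnm : n ≤ m) (hm : n + r ≤ m) :
    imageSubobject (ARSys.tr Y hnm) ≤ imageSubobject (u.app (op n)) := by
  rw [image_le_iff]
  exact fun T a => (cokernel_nullBy_iff u r).1 h n m hnm hm a

lemma image_app_le_of_strict {X Y : ARSys.PS C} (u : X ⟶ Y) (hX : ARSys.IsStrict X) {n m : ℕ}
    (hnm : n ≤ m) : imageSubobject (u.app (op n)) ≤ imageSubobject (ARSys.tr Y hnm) := by
  rw [image_le_iff]
  intro T a
  haveI := hX n m hnm
  obtain ⟨T', π, hπ, b, hb⟩ := surjective_up_to_refinements_of_epi (ARSys.tr X hnm) a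
  refine ⟨T', π, hπ, b ≫ u.app (op m), ?_⟩
  rw [Category.assoc, ← tr_nat, ← Category.assoc, hb, Category.assoc]

/-- the subsystem given by compatible subobjects -/
noncomputable def subSys (X : ARSys.PS C) (I : ∀ n : ℕ, Subobject (X.obj (op n)))
    (hI : ∀ (a b : ℕ) (h : a ≤ b), (I a).Factors ((I b).arrow ≫ ARSys.tr X h)) : ARSys.PS C where
  obj n := (I n.unop : C)
  map {a b} φ := (I b.unop).factorThru ((I a.unop).arrow ≫ X.map φ) (hI b.unop a.unop (leOfHom φ.unop))
  map_id a := by ext; simp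
  map_comp {a b c} φ ψ := by ext; simp

/-- the inclusion of the subsystem -/
noncomputable def subSysι (X : ARSys.PS C) (I : ∀ n : ℕ, Subobject (X.obj (op n)))
    (hI : ∀ (a b : ℕ) (h : a ≤ b), (I a).Factors ((I b).arrow ≫ ARSys.tr X h)) : subSys X I hI ⟶ X where
  app n := (I n.unop).arrow
  naturality {a b} φ := by simp [subSys]

instance mono_subSysι (X : ARSys.PS C) (I : ∀ n : ℕ, Subobject (X.obj (op n)))
    (hI : ∀ (a b : ℕ) (h : a ≤ b), (I a).Factors ((I b).arrow ≫ ARSys.tr X h)) :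
    Mono (subSysι X I hI) :=
  haveI : ∀ n, Mono ((subSysι X I hI).app n) := fun n => inferInstanceAs (Mono (I n.unop).arrow)
  NatTrans.mono_of_mono_app _

lemma exists_strict_of_MLBy (X : ARSys.PS C) {r : ℕ} (hr : MLBy r X) :
    ∃ (Y : ARSys.PS C) (u : Y ⟶ X), ARSys.IsStrict Y ∧ Mono u ∧ NullBy r (cokernel u) ∧
      ∀ n, imageSubobject (u.app (op n)) = imageSubobject (ARSys.tr X (Nat.le_add_right n r)) := by
  let I : ∀ n : ℕ, Subobject (X.obj (op n)) := fun n => imageSubobject (ARSys.tr X (Nat.le_add_right n r))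
  have hfac : ∀ (a b : ℕ) (h : a ≤ b), imageSubobject ((I b).arrow ≫ ARSys.tr X h) =
      imageSubobject (ARSys.tr X (show a ≤ b + r by omega)) := by
    intro a b h
    haveI : Epi (factorThruImageSubobject (ARSys.tr X (Nat.le_add_right b r))) := by
      dsimp [factorThruImageSubobject]; infer_instance
    apply le_antisymm
    · rw [image_le_iff]
      intro T x
      obtain ⟨T', π, hπ, y, hy⟩ := surjective_up_to_refinements_of_epi
        (factorThruImageSubobject (ARSys.tr X (Nat.le_add_right b r))) x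
      refine ⟨T', π, hπ, y, ?_⟩
      rw [reassoc_of% hy, imageSubobject_arrow_comp_assoc]
      exact congrArg (y ≫ ·) (tr_comp X h (Nat.le_add_right b r))
    · refine imageSubobject_le _ (factorThruImageSubobject (ARSys.tr X (Nat.le_add_right b r)) ≫
        factorThruImageSubobject ((I b).arrow ≫ ARSys.tr X h)) ?_
      simp only [I, Category.assoc, imageSubobject_arrow_comp]
      rw [← Category.assoc, imageSubobject_arrow_comp]
      exact tr_comp X h (Nat.le_add_right b r)
  have hI : ∀ (a b : ℕ) (h : a ≤ b), (I a).Factors ((I b).arrow ≫ ARSys.tr X h) := by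
    intro a b h
    have h2 : imageSubobject ((I b).arrow ≫ ARSys.tr X h) ≤ I a := by
      rw [hfac a b h]
      exact image_tr_anti X (Nat.le_add_right a r) (Nat.add_le_add_right h r)
    have h3 : ((I b).arrow ≫ ARSys.tr X h) = (factorThruImageSubobject ((I b).arrow ≫ ARSys.tr X h) ≫
        Subobject.ofLE _ _ h2) ≫ (I a).arrow := by simp
    rw [h3]; exact Subobject.factors_comp_arrow _
  refine ⟨subSys X I hI, subSysι X I hI, fun a b h => ?_, inferInstance, ?_, fun n => ?_⟩
  · have h2 : I a ≤ imageSubobject ((I b).arrow ≫ ARSys.tr X h) := by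
      rw [hfac a b h]; exact hr a (a + r) (b + r) _ _ le_rfl
    rw [← Subobject.mk_arrow (I a), ← imageSubobject_mono, image_le_iff] at h2
    show Epi ((I a).factorThru ((I b).arrow ≫ ARSys.tr X h) (hI a b h))
    rw [epi_iff_surjective_up_to_refinements]
    intro T t
    obtain ⟨T', π, hπ, y, hy⟩ := h2 t
    refine ⟨T', π, hπ, y, ?_⟩
    rw [← cancel_mono (I a).arrow]
    simpa using hy
  · rw [cokernel_nullBy_iff]
    intro n m h hm T y
    refine ⟨T, 𝟙 T, inferInstance, (I n).factorThru (y ≫ ARSys.tr X h) ?_, ?_⟩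
    · rw [← tr_comp X (Nat.le_add_right n r) hm, ← imageSubobject_arrow_comp (ARSys.tr X (Nat.le_add_right n r)),
        ← Category.assoc, ← Category.assoc]
      exact Subobject.factors_comp_arrow _
    · simp [subSysι]
      exact (Subobject.factorThru_arrow _ _ _).symm
  · show imageSubobject (I n).arrow = I n
    rw [imageSubobject_mono, Subobject.mk_arrow]

end Images

end Groth.Agent.ARSysLib
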